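import Groth.Agent.Lib.DQC.Affine
import Groth.Agent.Lib.DMV.Perfect
import Groth.Agent.S12451
import Groth.Agent.Lib.KInj.Derived

/-! Maps in the derived category of an affine scheme out of bounded above complexes of finite locally free
modules into complexes of quasi-coherent modules are homotopy classes. -/

set_option autoImplicit false
set_option linter.style.haveILetI false
set_option linter.unusedSectionVars false
set_option backward.isDefEq.respectTransparency false
set_option backward.isDefEq.respectTransparency.types false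

universe u

open CategoryTheory CategoryTheory.Limits AlgebraicGeometry

attribute [local instance] HasDerivedCategory.standard

namespace Groth.Agent.DQC9

section Cx

variable {A B : Type*} [Category* A] [Category* B] [Preadditive A] [Preadditive B]

/-- A fully faithful functor is full on complexes. -/
theorem exists_preimage (G : A ⥤ B) [G.Additive] [G.Full] [G.Faithful] {K L : CochainComplex A ℤ}
    (f : (G.mapHomologicalComplex (ComplexShape.up ℤ)).obj K ⟶ (G.mapHomologicalComplex (ComplexShape.up ℤ)).obj L) :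
    ∃ φ : K ⟶ L, (G.mapHomologicalComplex (ComplexShape.up ℤ)).map φ = f :=
  ⟨{ f := fun i => G.preimage (f.f i)
     comm' := fun i j _ => G.map_injective (by
      simp only [Functor.map_comp, Functor.map_preimage]
      exact f.comm i j) },
    HomologicalComplex.hom_ext _ _ fun i => G.map_preimage _⟩

/-- Null homotopies transport along natural isomorphisms. -/
theorem homotopy_of_natIso {G : A ⥤ A} [G.Additive] (u : G ≅ 𝟭 A) {K L : CochainComplex A ℤ} (f : K ⟶ L)
    (h : Homotopy ((G.mapHomologicalComplex (ComplexShape.up ℤ)).map f) 0) : Nonempty (Homotopy f 0) := by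
  let U := fun C : CochainComplex A ℤ =>
    HomologicalComplex.Hom.isoOfComponents (C₁ := (G.mapHomologicalComplex (ComplexShape.up ℤ)).obj C) (C₂ := C)
      (fun i => u.app (C.X i)) fun i j _ => (u.hom.naturality (C.d i j)).symm
  have hf : f = (U K).inv ≫ (G.mapHomologicalComplex (ComplexShape.up ℤ)).map f ≫ (U L).hom := by
    rw [Iso.eq_inv_comp]
    ext i
    exact (u.hom.naturality (f.f i)).symm
  exact ⟨(Homotopy.ofEq hf).trans (((h.compRight (U L).hom).compLeft (U K).inv).trans (Homotopy.ofEq (by simp)))⟩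

end Cx

section Spec

variable {R : CommRingCat.{u}}

/-- A complex of quasi-coherent modules comes from a complex of modules. -/
theorem exists_tildeX_iso (F : CochainComplex (Spec R).Modules ℤ) (hF : ∀ i, Coh.IsQCoh (F.X i)) :
    ∃ N : CochainComplex (ModuleCat.{u} R) ℤ, Nonempty ((DPerf.tildeX R).obj N ≅ F) := by
  let adj := tilde.adjunction (R := R)
  haveI : (moduleSpecΓFunctor (R := R)).Additive := adj.right_adjoint_additive
  haveI : ∀ i, IsIso (F.X i).fromTildeΓ := fun i =>
    haveI : (F.X i).IsQuasicoherent := hF i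
    Scheme.Modules.isIso_fromTildeΓ_of_isQuasicoherent (R := R) (F.X i)
  haveI : ∀ i, IsIso (adj.counit.app (F.X i)) := fun i => inferInstanceAs (IsIso (F.X i).fromTildeΓ)
  exact ⟨((moduleSpecΓFunctor (R := R)).mapHomologicalComplex (ComplexShape.up ℤ)).obj F,
    ⟨HomologicalComplex.Hom.isoOfComponents (fun i => asIso (adj.counit.app (F.X i)))
      fun i j _ => (adj.counit.naturality (F.d i j)).symm⟩⟩

theorem exists_kproj (E : CochainComplex (Spec R).Modules ℤ) (b : ℤ) (hEb : ∀ i, b < i → IsZero (E.X i))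
    (hE : ∀ i, FlatMod.IsFinLocFree (E.X i)) :
    ∃ P : CochainComplex (ModuleCat.{u} R) ℤ, P.IsKProjective ∧ Nonempty ((DPerf.tildeX R).obj P ≅ E) := by
  obtain ⟨P, ⟨e⟩⟩ := exists_tildeX_iso E fun i => M2.isQCoh_of_isFinLocFree (hE i)
  haveI : P.IsStrictlyLE b := (CochainComplex.isStrictlyLE_iff P b).2 fun i hi =>
    DPerf.isZero_of_tilde ((hEb i hi).of_iso ((HomologicalComplex.eval _ _ i).mapIso e))
  refine ⟨P, DMod.isKProjective b fun i => ?_, ⟨e⟩⟩
  exact ((S12451.result (P.X i)).1
    (M2.isFinLocFree_of_iso ((HomologicalComplex.eval _ _ i).mapIso e).symm (hE i))).2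

/-- On a spectrum. -/
theorem hom_spec (E F : CochainComplex (Spec R).Modules ℤ) (b : ℤ) (hEb : ∀ i, b < i → IsZero (E.X i))
    (hE : ∀ i, FlatMod.IsFinLocFree (E.X i)) (hF : ∀ i, Coh.IsQCoh (F.X i)) :
    (∀ f : E ⟶ F, DerivedCategory.Q.map f = 0 → Nonempty (Homotopy f 0)) ∧
      ∀ g : DerivedCategory.Q.obj E ⟶ DerivedCategory.Q.obj F, ∃ f : E ⟶ F, DerivedCategory.Q.map f = g := by
  obtain ⟨P, hP, ⟨eE⟩⟩ := exists_kproj E b hEb hE
  obtain ⟨N, ⟨eF⟩⟩ := exists_tildeX_iso F hF
  haveI := hP
  let ν := (tilde.functor R).mapDerivedCategoryFactors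
  refine ⟨fun f hf => ?_, fun g => ?_⟩
  · obtain ⟨φ, hφ⟩ := exists_preimage (tilde.functor R) (eE.hom ≫ f ≫ eF.inv)
    have h0 : DerivedCategory.Q.map φ = 0 := by
      apply (DQC.bijective_map _ _).1
      dsimp only
      rw [Functor.map_zero, ← cancel_mono (ν.hom.app N), zero_comp]
      refine (ν.hom.naturality φ).trans ?_
      change ν.hom.app P ≫ DerivedCategory.Q.map ((DPerf.tildeX R).map φ) = 0
      rw [hφ, Functor.map_comp, Functor.map_comp, hf, zero_comp, comp_zero, comp_zero]
    obtain ⟨h⟩ := (DMod.map_eq_zero_iff φ).1 h0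
    have hf' : f = eE.inv ≫ (DPerf.tildeX R).map φ ≫ eF.hom := by rw [hφ]; simp
    exact ⟨(Homotopy.ofEq hf').trans (((((tilde.functor R).mapHomotopy h).trans
      (Homotopy.ofEq (Functor.map_zero _ _ _))).compRight eF.hom).compLeft eE.inv |>.trans
        (Homotopy.ofEq (by simp)))⟩
  · obtain ⟨h, hh⟩ := (DQC.bijective_map (DerivedCategory.Q.obj P) (DerivedCategory.Q.obj N)).2
      (ν.hom.app P ≫ DerivedCategory.Q.map eE.hom ≫ g ≫ DerivedCategory.Q.map eF.inv ≫ ν.inv.app N)
    obtain ⟨φ, rfl⟩ := DMod.exists_map_eq h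
    refine ⟨eE.inv ≫ (DPerf.tildeX R).map φ ≫ eF.hom, ?_⟩
    have h1 : ν.hom.app P ≫ DerivedCategory.Q.map ((DPerf.tildeX R).map φ) =
        (DPerf.tildeDD R).map (DerivedCategory.Q.map φ) ≫ ν.hom.app N := (ν.hom.naturality φ).symm
    dsimp only at hh
    rw [hh] at h1
    have h2 : DerivedCategory.Q.map ((DPerf.tildeX R).map φ) =
        DerivedCategory.Q.map eE.hom ≫ g ≫ DerivedCategory.Q.map eF.inv := by
      rw [← cancel_epi (ν.hom.app P), h1]
      simp
    rw [Functor.map_comp, Functor.map_comp, h2]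
    simp [← Functor.map_comp_assoc, ← Functor.map_comp]

end Spec

/-- On an affine scheme. -/
theorem hom_affine {X : Scheme.{u}} [IsAffine X] (E F : CochainComplex X.Modules ℤ) (b : ℤ)
    (hEb : ∀ i, b < i → IsZero (E.X i)) (hE : ∀ i, FlatMod.IsFinLocFree (E.X i)) (hF : ∀ i, Coh.IsQCoh (F.X i)) :
    (∀ f : E ⟶ F, DerivedCategory.Q.map f = 0 → Nonempty (Homotopy f 0)) ∧
      ∀ g : DerivedCategory.Q.obj E ⟶ DerivedCategory.Q.obj F, ∃ f : E ⟶ F, DerivedCategory.Q.map f = g := by
  let j := X.isoSpec.inv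
  let k := X.isoSpec.hom
  let G := Scheme.Modules.restrictFunctor j
  let G' := Scheme.Modules.restrictFunctor k
  let u : G ⋙ G' ≅ 𝟭 X.Modules := (Scheme.Modules.restrictFunctorComp k j).symm ≪≫
    Scheme.Modules.restrictFunctorCongr (X.isoSpec.hom_inv_id) ≪≫ Scheme.Modules.restrictFunctorId
  let u' : G' ⋙ G ≅ 𝟭 _ := (Scheme.Modules.restrictFunctorComp j k).symm ≪≫
    Scheme.Modules.restrictFunctorCongr (X.isoSpec.inv_hom_id) ≪≫ Scheme.Modules.restrictFunctorId
  haveI : G.IsEquivalence := (CategoryTheory.Equivalence.mk G G' u.symm u').isEquivalence_functor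
  obtain ⟨hinj, hsurj⟩ := hom_spec ((DPerf.resX j).obj E) ((DPerf.resX j).obj F) b
    (fun i hi => G.map_isZero (hEb i hi)) (fun i => M2.isFinLocFree_restrict j (hE i))
    (fun i => M1.isQCoh_restrict (hF i) j)
  let U := fun C : CochainComplex X.Modules ℤ =>
    HomologicalComplex.Hom.isoOfComponents (C₁ := (DPerf.resX k).obj ((DPerf.resX j).obj C)) (C₂ := C)
      (fun i => u.app (C.X i)) fun i i' _ => (u.hom.naturality (C.d i i')).symm
  have faith : ∀ {K L : CochainComplex X.Modules ℤ} (g : DerivedCategory.Q.obj K ⟶ DerivedCategory.Q.obj L),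
      (DPerf.resD j).map g = 0 → g = 0 := fun {K L} g hg => by
    obtain ⟨M, s, hs, h, rfl⟩ := DerivedCategory.right_fac g
    have hh : DerivedCategory.Q.map ((DPerf.resX j).map h) = 0 := by
      rw [Functor.map_comp, Functor.map_inv, Preadditive.IsIso.comp_left_eq_zero] at hg
      rw [← cancel_epi ((DPerf.resFac j).hom.app M), comp_zero]
      exact ((DPerf.resFac j).hom.naturality h).symm.trans ((congrArg (· ≫ _) hg).trans zero_comp)
    have hh' : DerivedCategory.Q.map ((DPerf.resX k).map ((DPerf.resX j).map h)) = 0 := by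
      rw [← cancel_epi ((DPerf.resFac k).hom.app _), comp_zero]
      refine ((DPerf.resFac k).hom.naturality ((DPerf.resX j).map h)).symm.trans ?_
      exact (congrArg (fun t => (DPerf.resD k).map t ≫ _) hh).trans (by simp)
    have h2 : h = (U M).inv ≫ (DPerf.resX k).map ((DPerf.resX j).map h) ≫ (U L).hom := by
      rw [Iso.eq_inv_comp]
      refine HomologicalComplex.hom_ext _ _ fun i => ?_
      exact (u.hom.naturality (h.f i)).symm
    rw [h2, Functor.map_comp, Functor.map_comp, hh', zero_comp, comp_zero, comp_zero]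
  refine ⟨fun f hf => ?_, fun g => ?_⟩
  · have h1 : DerivedCategory.Q.map ((DPerf.resX j).map f) = 0 := by
      rw [← cancel_epi ((DPerf.resFac j).hom.app E), comp_zero]
      refine ((DPerf.resFac j).hom.naturality f).symm.trans ?_
      exact (congrArg (fun t => (DPerf.resD j).map t ≫ _) hf).trans (by simp)
    obtain ⟨H⟩ := hinj _ h1
    refine homotopy_of_natIso u f ((Homotopy.ofEq ?_).trans ((G'.mapHomotopy H).trans
      (Homotopy.ofEq (Functor.map_zero _ _ _))))
    rfl
  · obtain ⟨φ, hφ⟩ := hsurj ((DPerf.resFac j).inv.app E ≫ (DPerf.resD j).map g ≫ (DPerf.resFac j).hom.app F)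
    obtain ⟨f, hf⟩ := exists_preimage G φ
    refine ⟨f, sub_eq_zero.1 (faith _ ?_)⟩
    rw [Functor.map_sub, sub_eq_zero, ← cancel_mono ((DPerf.resFac j).hom.app F)]
    refine ((DPerf.resFac j).hom.naturality f).trans ?_
    change (DPerf.resFac j).hom.app E ≫ DerivedCategory.Q.map ((G.mapHomologicalComplex _).map f) = _
    rw [hf, hφ, Iso.hom_inv_id_app_assoc]

end Groth.Agent.DQC9
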